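import Groth.Agent.LinType.Basic
import Groth.Agent.RegLoc6.Seq

/-!
# A discrete valuation ring dominating a regular local ring
-/

set_option autoImplicit false
universe u

open IsLocalRing

namespace Groth.Agent.DomDVR

variable {A : Type u} [CommRing A] [IsRegularLocalRing A]

/-- The blow-up chart at the first parameter gives the order valuation. -/
theorem exists_dvr_of_params [IsDomain A] {n : ℕ} (a : Fin (n + 1) → A)
    (ha : RingTheory.Sequence.IsWeaklyRegular A (List.ofFn a))
    (hspan : Ideal.span (Set.range a) = maximalIdeal A) (ha0 : a 0 ≠ 0) :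
    ∃ (V : Subalgebra A (FractionRing A)) (_ : IsDomain V) (_ : IsDiscreteValuationRing V),
      IsFractionRing V (FractionRing A) ∧
      (IsLocalRing.maximalIdeal V).comap (algebraMap A V) = IsLocalRing.maximalIdeal A ∧
      ∃ (φ : IsLocalRing.ResidueField A →+* IsLocalRing.ResidueField V),
        φ.comp (IsLocalRing.residue A) = (IsLocalRing.residue V).comp (algebraMap A V) ∧
        letI := φ.toAlgebra
        ∃ (ι : Type u) (t : ι → IsLocalRing.ResidueField V), AlgebraicIndependent (IsLocalRing.ResidueField A) t ∧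
          IntermediateField.adjoin (IsLocalRing.ResidueField A) (Set.range t) = ⊤ := by
  classical
  let K := FractionRing A
  let R := MvPolynomial (Fin n) A
  have hc : algebraMap A K (a 0) ≠ 0 := (map_ne_zero_iff _ (IsFractionRing.injective A K)).2 ha0
  let t : Fin n → K := fun i => algebraMap A K (a i.succ) / algebraMap A K (a 0)
  let ψ : R →ₐ[A] K := MvPolynomial.aeval t
  have hψC : ∀ r : A, ψ (MvPolynomial.C r) = algebraMap A K r := fun r => MvPolynomial.aeval_C t r
  have hψX : ∀ i, ψ (MvPolynomial.X i) = t i := fun i => MvPolynomial.aeval_X t i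
  let χ : R →+* MvPolynomial (Fin n) (ResidueField A) := MvPolynomial.map (residue A)
  let P : Ideal R := RingHom.ker χ
  have hP : P = (maximalIdeal A).map MvPolynomial.C := by
    show RingHom.ker χ = _
    rw [MvPolynomial.ker_map, IsLocalRing.ker_residue]
  haveI : P.IsPrime := RingHom.ker_isPrime χ
  have hC0 : MvPolynomial.C (a 0) ∈ P := hP ▸ Ideal.mem_map_of_mem _ (hspan ▸ Ideal.subset_span ⟨0, rfl⟩)
  -- the kernel lies in `P`
  have hkerP : ∀ f : R, ψ f = 0 → f ∈ P := by
    intro f hf
    let L := Localization.Away (a 0)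
    let θ : L →ₐ[A] K := IsLocalization.liftAlgHom (M := Submonoid.powers (a 0)) (f := Algebra.ofId A K)
      (fun y => by
        obtain ⟨_, N, rfl⟩ := y
        exact isUnit_iff_ne_zero.2 (by simpa [Algebra.ofId_apply] using pow_ne_zero N hc))
    have hθ : Function.Injective θ := by
      intro x y hxy
      refine (IsLocalization.lift_injective_iff (M := Submonoid.powers (a 0)) (S := L) (g := algebraMap A K)
        (fun y => by
          obtain ⟨_, N, rfl⟩ := y
          exact isUnit_iff_ne_zero.2 (by simpa using pow_ne_zero N hc))).2 (fun u v => ?_) hxy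
      constructor
      · intro h; rw [IsLocalization.eq_iff_exists (Submonoid.powers (a 0)) L] at h
        obtain ⟨⟨_, N, rfl⟩, hN⟩ := h
        exact congrArg _ (mul_left_cancel₀ (pow_ne_zero N ha0) hN)
      · intro h; exact congrArg _ (IsFractionRing.injective A K h)
    have hcomp : ψ = θ.comp (MvPolynomial.aeval (fun i : Fin n => IsLocalization.mk' L (a i.succ)
        (⟨a 0, Submonoid.mem_powers (a 0)⟩ : Submonoid.powers (a 0)))) := by
      refine MvPolynomial.algHom_ext fun i => ?_
      simp only [ψ, MvPolynomial.aeval_X, AlgHom.comp_apply, t]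
      rw [div_eq_iff hc]
      have := congrArg θ (IsLocalization.mk'_spec L (a i.succ)
        (⟨a 0, Submonoid.mem_powers (a 0)⟩ : Submonoid.powers (a 0)))
      rw [map_mul, AlgHom.commutes, AlgHom.commutes] at this
      exact this.symm
    rw [hcomp, AlgHom.comp_apply] at hf
    have hm := hθ (hf.trans (map_zero θ).symm)
    have hle : Ideal.span (Set.range fun i : Fin n =>
        MvPolynomial.C (a 0) * MvPolynomial.X i - MvPolynomial.C (a i.succ)) ≤ P := by
      rw [Ideal.span_le]
      rintro _ ⟨i, rfl⟩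
      exact sub_mem (P.mul_mem_right _ hC0) (hP ▸ Ideal.mem_map_of_mem _ (hspan ▸ Ideal.subset_span ⟨i.succ, rfl⟩))
    exact hle ((LinType.ker_toAffineBlowup a ha).le hm)
  -- the ring
  let V : Subalgebra A K :=
    { carrier := {x | ∃ f g : R, g ∉ P ∧ x * ψ g = ψ f}
      mul_mem' := by
        rintro x y ⟨f, g, hg, hx⟩ ⟨f', g', hg', hy⟩
        exact ⟨f * f', g * g', Ideal.IsPrime.mul_notMem inferInstance hg hg', by
          rw [map_mul, map_mul, ← hx, ← hy]; ring⟩
      add_mem' := by
        rintro x y ⟨f, g, hg, hx⟩ ⟨f', g', hg', hy⟩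
        exact ⟨f * g' + f' * g, g * g', Ideal.IsPrime.mul_notMem inferInstance hg hg', by
          rw [map_mul, map_add, map_mul, map_mul, ← hx, ← hy]; ring⟩
      algebraMap_mem' := fun r => ⟨MvPolynomial.C r, 1, P.one_notMem, by rw [map_one, mul_one, hψC]⟩ }
  have hmemV : ∀ f : R, ψ f ∈ V := fun f => ⟨f, 1, P.one_notMem, by simp⟩
  let ψ' : R →+* V := (ψ.codRestrict V hmemV).toRingHom
  have hψ' : ∀ f, (ψ' f : K) = ψ f := fun _ => rfl
  have hne : ∀ g : R, g ∉ P → ψ g ≠ 0 := fun g hg h => hg (hkerP g h)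
  have hunit : ∀ g : R, g ∉ P → IsUnit (ψ' g) := fun g hg =>
    IsUnit.of_mul_eq_one ⟨(ψ g)⁻¹, 1, g, hg, by rw [inv_mul_cancel₀ (hne g hg), map_one]⟩
      (Subtype.ext (mul_inv_cancel₀ (hne g hg)))
  have hrep : ∀ x : V, ∃ f g : R, g ∉ P ∧ x * ψ' g = ψ' f := fun x => by
    obtain ⟨f, g, hg, hx⟩ := x.2
    exact ⟨f, g, hg, Subtype.ext hx⟩
  have hnu : ∀ f : R, f ∈ P → ¬ IsUnit (ψ' f) := by
    intro f hf hu
    obtain ⟨y, hy⟩ := hu.exists_right_inv
    obtain ⟨f', g', hg', hy'⟩ := hrep y
    refine hg' ((Submodule.sub_mem_iff_left P (P.mul_mem_right f' hf)).1 (hkerP (g' - f * f') ?_))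
    have := congrArg Subtype.val ((congrArg (· * ψ' g') hy).symm.trans
      ((mul_assoc _ _ _).trans (congrArg (ψ' f * ·) hy')))
    simp only [Subalgebra.coe_mul, OneMemClass.coe_one, one_mul, hψ'] at this
    rw [map_sub, map_mul, ← this, sub_self]
  have hnon : ∀ x : V, ¬ IsUnit x ↔ ∃ f g : R, g ∉ P ∧ f ∈ P ∧ x * ψ' g = ψ' f := by
    intro x
    constructor
    · intro hx
      obtain ⟨f, g, hg, hfg⟩ := hrep x
      refine ⟨f, g, hg, by_contra fun hf => hx ?_, hfg⟩
      exact isUnit_of_mul_isUnit_left (hfg ▸ hunit f hf : IsUnit (x * ψ' g))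
    · rintro ⟨f, g, hg, hf, hfg⟩ hx
      exact hnu f hf (hfg ▸ hx.mul (hunit g hg))
  haveI : IsLocalRing V := IsLocalRing.of_nonunits_add (fun x y hx hy => by
    obtain ⟨f, g, hg, hf, hfg⟩ := (hnon x).1 hx
    obtain ⟨f', g', hg', hf', hfg'⟩ := (hnon y).1 hy
    exact (hnon _).2 ⟨f * g' + f' * g, g * g', Ideal.IsPrime.mul_notMem inferInstance hg hg',
      add_mem (P.mul_mem_right _ hf) (P.mul_mem_right _ hf'), by
        rw [map_mul, map_add, map_mul, map_mul, ← hfg, ← hfg']; ring⟩)
  haveI : IsNoetherianRing V := by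
    refine isNoetherianRing_iff_ideal_fg V |>.2 fun I => ?_
    obtain hI : (I.comap ψ').map ψ' = I := le_antisymm Ideal.map_comap_le fun x hx => by
      obtain ⟨f, g, hg, hfg⟩ := hrep x
      have hmem : ψ' f ∈ (I.comap ψ').map ψ' :=
        Ideal.mem_map_of_mem _ (show ψ' f ∈ I from hfg ▸ I.mul_mem_right _ hx)
      rw [← hfg] at hmem
      exact (Ideal.mul_unit_mem_iff_mem _ (hunit g hg)).1 hmem
    rw [← hI]
    exact Ideal.FG.map (IsNoetherian.noetherian (I.comap ψ')) ψ'
  -- the maximal ideal is principal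
  let π : V := algebraMap A V (a 0)
  have hψ'C : ∀ r : A, ψ' (MvPolynomial.C r) = algebraMap A V r := fun r => Subtype.ext (hψC r)
  have hπψ : ψ' (MvPolynomial.C (a 0)) = π := hψ'C _
  have hPπ : P.map ψ' ≤ Ideal.span {π} := by
    rw [hP, Ideal.map_map, ← hspan, Ideal.map_span, Ideal.span_le]
    rintro _ ⟨_, ⟨i, rfl⟩, rfl⟩
    refine Ideal.mem_span_singleton'.2 ?_
    induction i using Fin.cases with
    | zero => exact ⟨1, by rw [one_mul]; exact hπψ.symm⟩
    | succ i =>
      refine ⟨ψ' (MvPolynomial.X i), Subtype.ext ?_⟩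
      show ψ (MvPolynomial.X i) * algebraMap A K (a 0) = ψ (MvPolynomial.C (a i.succ))
      rw [hψX, hψC]
      exact div_mul_cancel₀ _ hc
  have hmax : maximalIdeal V = Ideal.span {π} := by
    refine le_antisymm (fun x hx => ?_) ?_
    · obtain ⟨f, g, hg, hf, hfg⟩ := (hnon x).1 hx
      have := hPπ (Ideal.mem_map_of_mem ψ' hf)
      rw [← hfg] at this
      exact (Ideal.mul_unit_mem_iff_mem _ (hunit g hg)).1 this
    · rw [Ideal.span_singleton_le_iff_mem, IsLocalRing.mem_maximalIdeal, mem_nonunits_iff, ← hπψ]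
      exact hnu _ hC0
  have hπ0 : π ≠ 0 := fun h => hc (congrArg Subtype.val h)
  have hnf : ¬ IsField V := fun h => by
    have := IsLocalRing.isField_iff_maximalIdeal_eq.1 h
    rw [hmax, Ideal.span_singleton_eq_bot] at this
    exact hπ0 this
  haveI : IsDiscreteValuationRing V :=
    ((IsDiscreteValuationRing.TFAE V hnf).out 4 0).1 (show (maximalIdeal V).IsPrincipal from ⟨⟨π, hmax⟩⟩)
  haveI hloc : IsLocalHom (algebraMap A V) := ⟨fun r hr => by
    by_contra hr'
    refine hnu (MvPolynomial.C r) (hP ▸ Ideal.mem_map_of_mem _ hr') ?_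
    rwa [hψ'C]⟩
  refine ⟨V, inferInstance, inferInstance, ?_, ?_, ResidueField.map (algebraMap A V),
    ResidueField.map_comp_residue _, ?_⟩
  · refine IsFractionRing.of_field V K fun z => ?_
    obtain ⟨x, y, hy, hxy⟩ := IsFractionRing.div_surjective (A := A) z
    exact ⟨algebraMap A V x, algebraMap A V y, hxy.symm⟩
  · exact ((local_hom_TFAE (algebraMap A V)).out 0 4).1 hloc
  let ι := ULift.{u} (Fin n)
  let φ := ResidueField.map (algebraMap A V)
  letI := φ.toAlgebra
  let s : ι → ResidueField V := fun i => residue V (ψ' (MvPolynomial.X i.down))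
  have hres : ∀ f : R, residue V (ψ' f) =
      MvPolynomial.aeval s (MvPolynomial.rename ULift.up (χ f)) := by
    intro f
    refine RingHom.congr_fun (f := (residue V).comp ψ') (g := (MvPolynomial.aeval s).toRingHom.comp
      ((MvPolynomial.rename ULift.up).toRingHom.comp χ)) (MvPolynomial.ringHom_ext (fun r => ?_) fun i => ?_) f
    · simp only [RingHom.comp_apply, χ, MvPolynomial.map_C]
      rw [hψ'C]
      simp [RingHom.algebraMap_toAlgebra, φ, ResidueField.map_residue]
    · simp [χ, s]
  refine ⟨ι, s, ?_, ?_⟩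
  · rw [algebraicIndependent_iff]
    intro p hp
    obtain ⟨q, rfl⟩ := MvPolynomial.rename_surjective (R := ResidueField A) (f := (ULift.up : Fin n → ι))
      (fun i => ⟨i.down, rfl⟩) p
    obtain ⟨f, rfl⟩ := MvPolynomial.map_surjective (residue A) residue_surjective q
    rw [← hres, residue_eq_zero_iff] at hp
    have : f ∈ P := by_contra fun hf => hp (hunit f hf)
    rw [show MvPolynomial.map (residue A) f = 0 from this, map_zero]
  · refine eq_top_iff.2 fun z _ => ?_
    obtain ⟨x, rfl⟩ := residue_surjective z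
    obtain ⟨f, g, hg, hfg⟩ := hrep x
    have e := congrArg (residue V) hfg
    rw [map_mul, hres, hres] at e
    have hg0 : MvPolynomial.aeval s (MvPolynomial.rename ULift.up (χ g)) ≠ 0 :=
      hres g ▸ ((hunit g hg).map (residue V)).ne_zero
    rw [eq_div_iff hg0 |>.2 e]
    have hmem : ∀ p, MvPolynomial.aeval (R := ResidueField A) s p ∈ IntermediateField.adjoin (ResidueField A) (Set.range s) := by
      intro p
      refine IntermediateField.algebra_adjoin_le_adjoin _ _ ?_
      rw [Algebra.adjoin_range_eq_range_aeval]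
      exact ⟨p, rfl⟩
    exact div_mem (hmem _) (hmem _)

theorem exists_dvr (hA : ¬ IsField A) :
    ∃ (V : Subalgebra A (FractionRing A)) (_ : IsDomain V) (_ : IsDiscreteValuationRing V),
      IsFractionRing V (FractionRing A) ∧
      (IsLocalRing.maximalIdeal V).comap (algebraMap A V) = IsLocalRing.maximalIdeal A ∧
      ∃ (φ : IsLocalRing.ResidueField A →+* IsLocalRing.ResidueField V),
        φ.comp (IsLocalRing.residue A) = (IsLocalRing.residue V).comp (algebraMap A V) ∧
        letI := φ.toAlgebra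
        ∃ (ι : Type u) (t : ι → IsLocalRing.ResidueField V), AlgebraicIndependent (IsLocalRing.ResidueField A) t ∧
          IntermediateField.adjoin (IsLocalRing.ResidueField A) (Set.range t) = ⊤ := by
  haveI := RegLoc6.isDomain_of_isRegularLocalRing A
  obtain ⟨rs, hreg, hrs⟩ := RegLoc6.exists_regularSequence_maximalIdeal A
  obtain ⟨x, xs, rfl⟩ : ∃ x xs, rs = x :: xs := by
    cases rs with
    | nil => exact absurd (IsLocalRing.isField_iff_maximalIdeal_eq.2 (by rw [← hrs, Ideal.ofList_nil])) hA
    | cons x xs => exact ⟨x, xs, rfl⟩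
  have ha : RingTheory.Sequence.IsWeaklyRegular A (List.ofFn (x :: xs).get) := by
    rw [List.ofFn_get]; exact hreg.toIsWeaklyRegular
  refine exists_dvr_of_params (x :: xs).get ha ?_ ?_
  · rw [← hrs, Ideal.ofList]
    congr 1
    ext y
    simp [List.mem_iff_get]
  · have h := ((RingTheory.Sequence.isWeaklyRegular_cons_iff A x xs).1 hreg.toIsWeaklyRegular).1
    exact fun h0 => IsSMulRegular.not_zero (M := A) ((show x = 0 from h0) ▸ h)

end Groth.Agent.DomDVR
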